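import Groth.Agent.EGA43.ProperInj.Scheme
import Groth.Agent.EGA43.FlatIdeal.Scheme
import Groth.Agent.EGA43.QcohFlat
import Groth.Agent.EGA43.QcohFP
import Groth.Agent.Props12.FlatOver
import Groth.Agent.Desc19b.ModStFibGrpd

/-!
# EGA IV 11.5: descent of flatness of modules along proper morphisms, pointwise
-/

set_option autoImplicit false
set_option backward.isDefEq.respectTransparency false
set_option linter.style.haveILetI false

universe u

open CategoryTheory CategoryTheory.Limits AlgebraicGeometry TopologicalSpace Opposite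
open scoped TensorProduct

namespace Groth.Agent.EGA43.ProperInj

/-- A flat base change of an `A`-flat module is `A`-flat. -/
theorem flat_tensor_flat {A C : Type u} (S : Type u) [CommRing A] [CommRing C] [CommRing S] [Algebra A C]
    [Algebra C S] [Algebra A S] [IsScalarTower A C S] [Module.Flat C S]
    (N : Type u) [AddCommGroup N] [Module A N] [Module C N] [IsScalarTower A C N] [Module.Flat A N] :
    Module.Flat A (S ⊗[C] N) := by
  rw [Module.Flat.iff_lTensor_preserves_injective_linearMap]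
  intro P P' _ _ _ _ i hi
  have h2 : Function.Injective (TensorProduct.AlgebraTensorModule.lTensor C N i) :=
    Module.Flat.lTensor_preserves_injective_linearMap i hi
  have h3 := Module.Flat.lTensor_preserves_injective_linearMap (M := S) _ h2
  let b := TensorProduct.AlgebraTensorModule.assoc A C C S N P
  let b' := TensorProduct.AlgebraTensorModule.assoc A C C S N P'
  intro x y hxy
  refine b.injective (h3 ?_)
  have hb : ∀ z, b' (i.lTensor (S ⊗[C] N) z) = (TensorProduct.AlgebraTensorModule.lTensor C N i).lTensor S (b z) :=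
    fun z => by
      induction z using TensorProduct.induction_on with
      | zero => simp
      | add a b ha hb => simp only [map_add, ha, hb]
      | tmul t p =>
        induction t using TensorProduct.induction_on with
        | zero => simp
        | add a b ha hb => simp only [TensorProduct.add_tmul, map_add, ha, hb]
        | tmul s n => simp [b, b']
  rw [← hb, ← hb, hxy]

/-- Flatness after localising the base gives flatness of the localised module. -/
theorem flat_localizedModule_of_atPrime {A C : Type u} [CommRing A] [CommRing C] [Algebra A C]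
    (M : Type u) [AddCommGroup M] [Module A M] [Module C M] [IsScalarTower A C M] (q : Ideal C) [q.IsPrime]
    (h : Module.Flat (Localization.AtPrime (q.comap (algebraMap A C)))
      (Localization.AtPrime (q.comap (algebraMap A C)) ⊗[A] M)) :
    Module.Flat A (LocalizedModule q.primeCompl M) := by
  let p := q.comap (algebraMap A C)
  let R := Localization.AtPrime p
  let S := Localization.AtPrime q
  haveI : Module.Flat A R := IsLocalization.flat R p.primeCompl
  haveI : Module.Flat A (R ⊗[A] M) := Module.Flat.trans A R _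
  haveI : Module.Flat A (M ⊗[A] R) := Module.Flat.of_linearEquiv (TensorProduct.comm A M R)
  haveI : Module.Flat C S := IsLocalization.flat S q.primeCompl
  letI : Algebra R S := (Localization.localRingHom p q (algebraMap A C) rfl).toAlgebra
  haveI : IsScalarTower A R S := IsScalarTower.of_algebraMap_eq fun a => by
    show algebraMap A S a = Localization.localRingHom p q (algebraMap A C) rfl (algebraMap A R a)
    rw [Localization.localRingHom_to_map, ← IsScalarTower.algebraMap_apply]
  haveI h1 : Module.Flat A ((S ⊗[C] M) ⊗[A] R) :=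
    haveI := flat_tensor_flat (A := A) (C := C) S (M ⊗[A] R)
    Module.Flat.of_linearEquiv ((TensorProduct.AlgebraTensorModule.assoc A C C S M R).restrictScalars A)
  let sec : S ⊗[C] M →ₗ[A] (S ⊗[C] M) ⊗[A] R := (TensorProduct.mk A (S ⊗[C] M) R).flip 1
  let ret : (S ⊗[C] M) ⊗[A] R →ₗ[A] S ⊗[C] M :=
    TensorProduct.lift (LinearMap.flip (Algebra.lsmul A A (S ⊗[C] M) : R →ₐ[A] Module.End A (S ⊗[C] M)).toLinearMap)
  haveI : Module.Flat A (S ⊗[C] M) := Module.Flat.of_retract sec ret (LinearMap.ext fun z => by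
    show ret (z ⊗ₜ[A] (1 : R)) = z
    simp [ret])
  exact Module.Flat.of_linearEquiv ((LocalizedModule.equivTensorProduct q.primeCompl M).restrictScalars A)

variable {X Y Y' : Scheme.{u}} (f : X ⟶ Y) (F : X.Modules) [Coh.IsQCoh F]

/-- Flatness of a base change on one pair of affine pieces. -/
theorem flat_piece_iff_general (g : Y' ⟶ Y) {U : X.Opens} (hU : IsAffineOpen U) {V : Y.Opens}
    (hV : IsAffineOpen V) {V' : Y'.Opens} (hV' : IsAffineOpen V') (eU : U ≤ f ⁻¹ᵁ V) (eV : V' ≤ g ⁻¹ᵁ V) :
    letI := (g.appLE V V' eV).hom.toAlgebra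
    letI := QcohFlat.overModule f F V U eU
    (∀ x : ↥(pullback f g), pullback.fst f g x ∈ U → pullback.snd f g x ∈ V' →
        FlatMod.IsFlatOverAt (pullback.snd f g) ((Scheme.Modules.pullback (pullback.fst f g)).obj F) x) ↔
      Module.Flat Γ(Y', V') (Γ(Y', V') ⊗[Γ(Y, V)] Γ(F, U)) := by
  let W := (pullback.fst f g) ⁻¹ᵁ U ⊓ (pullback.snd f g) ⁻¹ᵁ V'
  have H := IsPullback.of_hasPullback f g
  have hWa : IsAffineOpen W := InjFibre.isAffineOpen_inf_preimage H hV hU hV' eU eV
  have hQ := InjFibre.isQCoh_pullback (pullback.fst f g) F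
  obtain ⟨-, hPF, -, μ', -, hμ', -⟩ := InjFibre.exists_baseChange_data H (𝟙 F) hV hU hV' eU eV (W := W) rfl hWa
  let _ := (g.appLE V V' eV).hom.toAlgebra
  let _ := QcohFlat.overModule f F V U eU
  let _ := QcohFlat.overModule (pullback.snd f g) ((Scheme.Modules.pullback (pullback.fst f g)).obj F) V' W inf_le_right
  let _ : Module Γ(Y, V) Γ((Scheme.Modules.pullback (pullback.fst f g)).obj F, W) :=
    Module.compHom _ (((pullback.fst f g).appLE U W inf_le_left).hom.comp (f.appLE V U eU).hom)
  rw [Module.Flat.equiv_iff hμ'.equiv]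
  exact (forall_congr' fun x => ⟨fun h hx => h hx.1 hx.2, fun h h1 h2 => h ⟨h1, h2⟩⟩).trans
    (Props12.flat_sections_iff (pullback.snd f g) _ hV' hWa inf_le_right).symm

/-- **EGA IV 11.5**: flatness descends along a proper morphism injective on functions near the point. -/
theorem isFlatOverAt_of_proper [LocallyOfFinitePresentation f] (hF : CohB1.IsFP F) (x : X)
    (g : Y' ⟶ Y) [IsProper g] [LocallyOfFinitePresentation g]
    (hinj : ∀ (V : Y.Opens) (s : Γ(Y, V)), f x ∈ V → g.app V s = 0 →
      ∃ W : Y.Opens, f x ∈ W ∧ ∃ hWV : W ≤ V, Y.presheaf.map (homOfLE hWV).op s = 0)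
    (hflat : ∀ x' : ↥(pullback f g), pullback.fst f g x' = x →
      FlatMod.IsFlatOverAt (pullback.snd f g) ((Scheme.Modules.pullback (pullback.fst f g)).obj F) x') :
    FlatMod.IsFlatOverAt f F x := by
  obtain ⟨V, hV, hxV, -⟩ := exists_isAffineOpen_mem_and_subset (x := f x) (U := ⊤) trivial
  haveI : IsProper (pullback.fst f g) := MorphismProperty.pullback_fst _ _ ‹IsProper g›
  haveI : LocallyOfFinitePresentation (pullback.snd f g) :=
    MorphismProperty.pullback_snd (P := @LocallyOfFinitePresentation.{u}) _ _ ‹_›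
  haveI := InjFibre.isQCoh_pullback (pullback.fst f g) F
  have hbad : IsClosed (pullback.fst f g '' {z : ↥(pullback f g) | FlatMod.IsFlatOverAt (pullback.snd f g)
      ((Scheme.Modules.pullback (pullback.fst f g)).obj F) z}ᶜ) :=
    (pullback.fst f g).isClosedMap _ (QcohFlat.isOpen_setOf_isFlatOverAt _ _
      (Desc19b.ModStFib.isFP_pullback _ F hF)).isClosed_compl
  obtain ⟨U, hU, hxU, hUle⟩ := exists_isAffineOpen_mem_and_subset (x := x)
    (U := f ⁻¹ᵁ V ⊓ ⟨_, hbad.isOpen_compl⟩) ⟨hxV, fun ⟨z, hz, hzx⟩ => hz (hflat z hzx)⟩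
  have eU : U ≤ f ⁻¹ᵁ V := fun w hw => (hUle hw).1
  have hgood : ∀ z : ↥(pullback f g), pullback.fst f g z ∈ U →
      FlatMod.IsFlatOverAt (pullback.snd f g) ((Scheme.Modules.pullback (pullback.fst f g)).obj F) z := fun z hz => by
    by_contra hc
    exact (hUle hz).2 ⟨z, hc, rfl⟩
  rw [QcohFlat.isFlatOverAt_iff f F hV hU eU hxU]
  letI := (f.appLE V U eU).hom.toAlgebra
  letI := QcohFlat.overModule f F V U eU
  haveI : IsScalarTower Γ(Y, V) Γ(X, U) Γ(F, U) := IsScalarTower.of_algebraMap_smul fun _ _ => rfl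
  haveI : Algebra.FinitePresentation Γ(Y, V) Γ(X, U) :=
    HasRingHomProperty.appLE @LocallyOfFinitePresentation f inferInstance ⟨V, hV⟩ ⟨U, hU⟩ eU
  haveI := QcohFP.finitePresentation_sections F hF hU
  let q := (hU.primeIdealOf ⟨x, hxU⟩).asIdeal
  have hp : q.comap (algebraMap Γ(Y, V) Γ(X, U)) = (hV.primeIdealOf ⟨f x, hxV⟩).asIdeal :=
    congrArg PrimeSpectrum.asIdeal (hV.comap_primeIdealOf_appLE _ _ hU eU hxU)
  refine flat_localizedModule_of_atPrime Γ(F, U) q ?_
  haveI : IsProper (g ∣_ V) := MorphismProperty.of_isPullback (isPullback_morphismRestrict g V).flip ‹IsProper g›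
  haveI : LocallyOfFinitePresentation (g ∣_ V) :=
    MorphismProperty.of_isPullback (isPullback_morphismRestrict g V).flip ‹LocallyOfFinitePresentation g›
  haveI : IsProper ((g ∣_ V) ≫ hV.isoSpec.hom) := inferInstance
  haveI : LocallyOfFinitePresentation ((g ∣_ V) ≫ hV.isoSpec.hom) := inferInstance
  refine flat_of_proper_at (C := Γ(X, U)) Γ(F, U) ((g ∣_ V) ≫ hV.isoSpec.hom) _ (fun a ha => ?_)
    fun B _ _ j hj hjg => ?_
  · have h0 : g.app V a = 0 := by
      refine TopCat.Sheaf.eq_of_locally_eq' Y'.sheaf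
        (fun W : {W : Y'.Opens // IsAffineOpen W ∧ W ≤ g ⁻¹ᵁ V} => W.1) (g ⁻¹ᵁ V) (fun W => homOfLE W.2.2)
        (fun w hw => by
          obtain ⟨W, hW, hwW, hle⟩ := exists_isAffineOpen_mem_and_subset (x := w) (U := g ⁻¹ᵁ V) hw
          exact Opens.mem_iSup.2 ⟨⟨W, hW, hle⟩, hwW⟩) _ _ fun W => ?_
      rw [map_zero]
      letI : Algebra Γ(Y, V) Γ(Y', W.1) := (g.appLE V W.1 W.2.2).hom.toAlgebra
      let j : Spec (CommRingCat.of Γ(Y', W.1)) ⟶ (g ⁻¹ᵁ V : Scheme.{u}) :=
        IsOpenImmersion.lift (g ⁻¹ᵁ V).ι W.2.1.fromSpec (by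
          rw [Scheme.Opens.range_ι]
          exact W.2.1.range_fromSpec.le.trans W.2.2)
      haveI : IsOpenImmersion j := by
        haveI : IsOpenImmersion (j ≫ (g ⁻¹ᵁ V).ι) := by rw [IsOpenImmersion.lift_fac]; infer_instance
        exact IsOpenImmersion.of_comp j (g ⁻¹ᵁ V).ι
      refine ha Γ(Y', W.1) j inferInstance ?_
      rw [← cancel_mono hV.fromSpec, Category.assoc, Category.assoc]
      have h3 : hV.isoSpec.hom ≫ hV.fromSpec = V.ι := by
        rw [← IsAffineOpen.isoSpec_inv_ι, Iso.hom_inv_id_assoc]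
      rw [h3, morphismRestrict_ι, IsOpenImmersion.lift_fac_assoc]
      exact (IsAffineOpen.SpecMap_appLE_fromSpec g hV W.2.1 W.2.2).symm
    obtain ⟨W, hxW, hWV, hW0⟩ := hinj V a hxV h0
    have h1 : Y.presheaf.germ V (f x) hxV a = 0 := by
      rw [← TopCat.Presheaf.germ_res_apply Y.presheaf (homOfLE hWV) (f x) hxW a, hW0, map_zero]
    letI : Algebra Γ(Y, V) (Y.presheaf.stalk (f x)) := TopCat.Presheaf.algebra_section_stalk Y.presheaf ⟨f x, hxV⟩
    haveI : IsLocalization.AtPrime (Y.presheaf.stalk (f x)) (hV.primeIdealOf ⟨f x, hxV⟩).asIdeal :=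
      hV.isLocalization_stalk ⟨f x, hxV⟩
    obtain ⟨r, hr⟩ := (IsLocalization.map_eq_zero_iff (hV.primeIdealOf ⟨f x, hxV⟩).asIdeal.primeCompl
      (Y.presheaf.stalk (f x)) a).1 h1
    exact (IsLocalization.map_eq_zero_iff (q.comap (algebraMap Γ(Y, V) Γ(X, U))).primeCompl _ a).2
      ⟨⟨r.1, fun h => r.2 (le_of_eq hp h)⟩, hr⟩
  · haveI := hj
    let k : Spec (CommRingCat.of B) ⟶ Y' := j ≫ (g ⁻¹ᵁ V).ι
    let V' : Y'.Opens := k.opensRange
    have hV' : IsAffineOpen V' := isAffineOpen_opensRange k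
    have eV : V' ≤ g ⁻¹ᵁ V := by
      rintro _ ⟨w, rfl⟩
      exact (j w).2
    letI := (g.appLE V V' eV).hom.toAlgebra
    have h := (flat_piece_iff_general f F g hU hV hV' eU eV).1 fun z hz _ => hgood z hz
    let θ : Γ(Y', V') ⟶ CommRingCat.of B :=
      k.appLE V' ⊤ (fun w _ => ⟨w, rfl⟩) ≫ (Scheme.ΓSpecIso (CommRingCat.of B)).hom
    have hθ : Spec.map θ ≫ hV'.fromSpec = k := by
      rw [Spec.map_comp, Category.assoc,
        IsAffineOpen.SpecMap_appLE_fromSpec k hV' (isAffineOpen_top _) _, IsAffineOpen.fromSpec_top,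
        Scheme.isoSpec_Spec_inv, ← Category.assoc, ← Spec.map_comp, Iso.inv_hom_id, Spec.map_id, Category.id_comp]
    have hcomm : g.appLE V V' eV ≫ θ = CommRingCat.ofHom (algebraMap Γ(Y, V) B) := by
      refine Spec.map_injective ?_
      rw [← cancel_mono hV.fromSpec, Spec.map_comp, Category.assoc,
        IsAffineOpen.SpecMap_appLE_fromSpec g hV hV' eV, ← Category.assoc, hθ, ← hjg]
      simp only [k, Category.assoc]
      rw [show hV.isoSpec.hom ≫ hV.fromSpec = V.ι by rw [← IsAffineOpen.isoSpec_inv_ι, Iso.hom_inv_id_assoc],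
        morphismRestrict_ι]
    letI : Algebra Γ(Y', V') B := θ.hom.toAlgebra
    haveI : IsScalarTower Γ(Y, V) Γ(Y', V') B :=
      IsScalarTower.of_algebraMap_eq fun a => (ConcreteCategory.congr_hom hcomm a).symm
    haveI := h
    exact Module.Flat.of_linearEquiv
      (TensorProduct.AlgebraTensorModule.cancelBaseChange Γ(Y, V) Γ(Y', V') B B Γ(F, U)).symm

end Groth.Agent.EGA43.ProperInj
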