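import Groth.Agent.EGA43.ProperInj.Cover
import Groth.Agent.EGA43.FlatBC.Semilocal
import Groth.Agent.FlatCrit.Tor

/-!
# Flatness descends along injective proper morphisms, Noetherian base
-/

set_option autoImplicit false
set_option backward.isDefEq.respectTransparency false
set_option linter.style.haveILetI false

universe u

open IsLocalRing
open scoped TensorProduct

namespace Groth.Agent.EGA43.ProperInj

/-- Flatness at a local ring of `C`. -/
theorem flat_localized {A R C S : Type u} [CommRing A] [CommRing R] [IsLocalRing R] [IsNoetherianRing R]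
    [Algebra A R] [CommRing C] [Algebra A C] [CommRing S] [IsNoetherianRing S] [Algebra A S] [Algebra C S]
    [Algebra R S] [IsScalarTower A C S] [IsScalarTower A R S] [Module.Flat C S]
    (hR : ∃ W : Submonoid A, IsLocalization W R)
    (hjac : (maximalIdeal R).map (algebraMap R S) ≤ Ideal.jacobson ⊥)
    (M : Type u) [AddCommGroup M] [Module A M] [Module C M] [IsScalarTower A C M] [Module.Finite C M]
    {ι : Type u} [Finite ι] (B : ι → Type u) [∀ i, CommRing (B i)] [∀ i, Algebra A (B i)]
    [∀ i, Algebra.FiniteType R (R ⊗[A] B i)]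
    (c : ProperCover R (fun i => R ⊗[A] B i))
    (hinj : ∀ r : R, (∀ i, algebraMap R (R ⊗[A] B i) r = 0) → r = 0)
    (hflat : ∀ i, Module.Flat (B i) (B i ⊗[A] M)) :
    Module.Flat A (S ⊗[C] M) := by
  obtain ⟨W, hW⟩ := hR
  haveI : Module.Flat A R := IsLocalization.flat R W
  suffices h : Module.Flat R (S ⊗[C] M) from Module.Flat.trans A R _
  haveI : Module.Finite S (S ⊗[C] M) := inferInstance
  refine FlatCrit.flat_of_quotFlat_pow (S := S) (maximalIdeal R) hjac fun N => ?_
  obtain ⟨k, hk⟩ := c.exists_pow hinj (N + 1)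
  let J : Ideal R := ⨅ i, ((maximalIdeal R ^ (k + 1)).map (algebraMap R (R ⊗[A] B i))).comap
    (algebraMap R (R ⊗[A] B i))
  have hJN : J ≤ maximalIdeal R ^ (N + 1) := fun r hr => hk r fun i =>
    Ideal.map_mono (Ideal.pow_le_pow_right (Nat.le_succ k)) ((Submodule.mem_iInf _).1 hr i)
  have hJk : maximalIdeal R ^ (k + 1) ≤ J := le_iInf fun i => Ideal.le_comap_map
  let R' := R ⧸ J
  haveI : Nontrivial R' := Ideal.Quotient.nontrivial_iff.2 fun h =>
    (maximalIdeal.isMaximal R).ne_top (top_le_iff.1 (h ▸ hJN.trans (Ideal.pow_le_self (Nat.succ_ne_zero _))))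
  haveI : IsLocalRing R' := .of_surjective' (Ideal.Quotient.mk J) Ideal.Quotient.mk_surjective
  have hnil : IsNilpotent (Ring.jacobson R') := by
    rw [Ring.jacobson_eq_sInf_isMaximal, show sInf {I : Ideal R' | I.IsMaximal} = maximalIdeal R' from
      le_antisymm (sInf_le (maximalIdeal.isMaximal R')) (le_sInf fun I hI => (eq_maximalIdeal hI).ge)]
    refine ⟨k + 1, ?_⟩
    rw [← IsLocalRing.map_maximalIdeal_of_surjective (Ideal.Quotient.mk J) Ideal.Quotient.mk_surjective,
      ← Ideal.map_pow, Ideal.zero_eq_bot, Ideal.map_eq_bot_iff_le_ker, Ideal.mk_ker]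
    exact hJk
  haveI : Finite (MaximalSpectrum R') := Finite.of_injective (fun _ => ())
    fun p q _ => MaximalSpectrum.ext ((eq_maximalIdeal p.2).trans (eq_maximalIdeal q.2).symm)
  let Q : ι → Type u := fun i => (R ⊗[A] B i) ⧸ (maximalIdeal R ^ (k + 1)).map (algebraMap R (R ⊗[A] B i))
  letI : ∀ i, Algebra R' (Q i) := fun i =>
    (Ideal.Quotient.lift J (algebraMap R (Q i)) fun r hr =>
      Ideal.Quotient.eq_zero_iff_mem.2 ((Submodule.mem_iInf _).1 hr i)).toAlgebra
  haveI : ∀ i, IsScalarTower R R' (Q i) := fun i => IsScalarTower.of_algebraMap_eq fun r => rfl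
  haveI : ∀ i, IsScalarTower A R' (Q i) := fun i => IsScalarTower.of_algebraMap_eq fun a => by
    show algebraMap A (Q i) a = algebraMap R' (Q i) (Ideal.Quotient.mk J (algebraMap A R a))
    rw [IsScalarTower.algebraMap_apply A R (Q i)]
    rfl
  have hQ : ∀ x : R', (∀ i, algebraMap R' (Q i) x = 0) → x = 0 := fun x hx => by
    obtain ⟨x, rfl⟩ := Ideal.Quotient.mk_surjective x
    exact Ideal.Quotient.eq_zero_iff_mem.2 ((Submodule.mem_iInf _).2 fun i =>
      Ideal.mem_comap.2 (Ideal.Quotient.eq_zero_iff_mem.1 (hx i)))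
  have hN0 : Module.Flat R' (R' ⊗[A] M) := by
    refine (FlatBC.flat_iff_forall_flat_baseChange hnil Q hQ (R' ⊗[A] M)).2 fun i => ?_
    letI : Algebra (B i) (Q i) :=
      ((Ideal.Quotient.mk _).comp (Algebra.TensorProduct.includeRight (R := A) (A := R)).toRingHom).toAlgebra
    haveI : IsScalarTower A (B i) (Q i) := IsScalarTower.of_algebraMap_eq fun a => by
      show Ideal.Quotient.mk _ (algebraMap A (R ⊗[A] B i) a) = Ideal.Quotient.mk _ (_ : R ⊗[A] B i)
      exact congrArg _ (AlgHom.commutes (Algebra.TensorProduct.includeRight (R := A) (A := R) (B := B i)) a).symm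
    haveI := hflat i
    exact Module.Flat.of_linearEquiv ((TensorProduct.AlgebraTensorModule.cancelBaseChange A R' (Q i) (Q i) M) ≪≫ₗ
      (TensorProduct.AlgebraTensorModule.cancelBaseChange A (B i) (Q i) (Q i) M).symm)
  intro P P' _ _ _ _ i hP hi
  have hP' : ∀ r ∈ J, ∀ b : P', r • b = 0 := fun r hr b =>
    hP r (Ideal.pow_le_pow_right (Nat.le_succ N) (hJN hr)) b
  have tP' : Module.IsTorsionBySet R P' J := fun b r => hP' r r.2 b
  have tP : Module.IsTorsionBySet R P J := fun b r => hi (by rw [map_smul, map_zero, hP' r r.2])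
  letI := tP.module
  letI := tP'.module
  letI : Module A P := Module.compHom P (algebraMap A R)
  letI : Module A P' := Module.compHom P' (algebraMap A R)
  haveI : IsScalarTower A R P := IsScalarTower.of_compHom A R P
  haveI : IsScalarTower A R P' := IsScalarTower.of_compHom A R P'
  haveI : IsScalarTower R R' P := tP.isScalarTower
  haveI : IsScalarTower R R' P' := tP'.isScalarTower
  haveI : IsScalarTower A R' P := IsScalarTower.of_algebraMap_smul fun a b => by
    rw [IsScalarTower.algebraMap_apply A R R', algebraMap_smul, algebraMap_smul]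
  haveI : IsScalarTower A R' P' := IsScalarTower.of_algebraMap_smul fun a b => by
    rw [IsScalarTower.algebraMap_apply A R R', algebraMap_smul, algebraMap_smul]
  let i' : P →ₗ[R'] P' := i.extendScalarsOfSurjective Ideal.Quotient.mk_surjective
  have h1 : Function.Injective (i'.rTensor (R' ⊗[A] M)) :=
    Module.Flat.rTensor_preserves_injective_linearMap i' hi
  let e : P ⊗[R'] (R' ⊗[A] M) ≃+ M ⊗[A] P :=
    (TensorProduct.AlgebraTensorModule.cancelBaseChange A R' R' P M).toAddEquiv.trans
      (TensorProduct.comm A P M).toAddEquiv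
  let e' : P' ⊗[R'] (R' ⊗[A] M) ≃+ M ⊗[A] P' :=
    (TensorProduct.AlgebraTensorModule.cancelBaseChange A R' R' P' M).toAddEquiv.trans
      (TensorProduct.comm A P' M).toAddEquiv
  have h2 : Function.Injective (TensorProduct.AlgebraTensorModule.lTensor C M (i.restrictScalars A)) := by
    intro x y hxy
    obtain ⟨x, rfl⟩ := e.surjective x
    obtain ⟨y, rfl⟩ := e.surjective y
    have he : ∀ z, TensorProduct.AlgebraTensorModule.lTensor C M (i.restrictScalars A) (e z) =
        e' (i'.rTensor (R' ⊗[A] M) z) := fun z => by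
      induction z using TensorProduct.induction_on with
      | zero => simp
      | add a b ha hb => simp only [map_add, ha, hb]
      | tmul p t =>
        induction t using TensorProduct.induction_on with
        | zero => simp
        | add a b ha hb => simp only [TensorProduct.tmul_add, map_add, ha, hb]
        | tmul r m =>
          simp [e, e', i']
          exact congrArg _ (i'.map_smul r p)
    rw [he, he] at hxy
    rw [h1 (e'.injective hxy)]
  have h3 := Module.Flat.lTensor_preserves_injective_linearMap (M := S) _ h2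
  let b : ∀ (T : Type u) [AddCommGroup T] [Module A T] [Module R T] [IsScalarTower A R T],
      (S ⊗[C] (M ⊗[A] T)) ≃+ (T ⊗[R] (S ⊗[C] M)) := fun T _ _ _ _ => by
    haveI : TensorProduct.CompatibleSMul A R T (S ⊗[C] M) := IsLocalization.tensorProduct_compatibleSMul W R _ _
    haveI : TensorProduct.CompatibleSMul R A T (S ⊗[C] M) := inferInstance
    exact (((TensorProduct.AlgebraTensorModule.assoc A C C S M T).symm.toAddEquiv.trans
      (TensorProduct.comm A (S ⊗[C] M) T).toAddEquiv).trans
        (TensorProduct.equivOfCompatibleSMul A R A T (S ⊗[C] M)).symm.toAddEquiv)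
  intro x y hxy
  obtain ⟨x, rfl⟩ := (b P).surjective x
  obtain ⟨y, rfl⟩ := (b P).surjective y
  have hb : ∀ z, i.rTensor (S ⊗[C] M) (b P z) =
      b P' ((TensorProduct.AlgebraTensorModule.lTensor C M (i.restrictScalars A)).lTensor S z) := fun z => by
    induction z using TensorProduct.induction_on with
    | zero => simp
    | add a b ha hb => simp only [map_add, ha, hb]
    | tmul s t =>
      induction t using TensorProduct.induction_on with
      | zero => simp
      | add a b ha hb => simp only [TensorProduct.tmul_add, map_add, ha, hb]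
      | tmul m p =>
        simp [b]
        rfl
  rw [hb, hb] at hxy
  rw [h3 ((b P').injective hxy)]

end Groth.Agent.EGA43.ProperInj
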