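import Groth.Agent.Schless.Limit
import Groth.Agent.Matlis6.CompletionNoetherian
import Mathlib.AlgebraicGeometry.Morphisms.Proper
import Mathlib.AlgebraicGeometry.Pullbacks
import Mathlib.AlgebraicGeometry.AffineScheme
import Mathlib.RingTheory.AdicCompletion.Noetherian
import Mathlib.RingTheory.AdicCompletion.LocalRing
import Mathlib.RingTheory.AdicCompletion.AsTensorProduct
import Mathlib.RingTheory.Filtration
import Mathlib.RingTheory.Localization.AtPrime.Basic
import Mathlib.RingTheory.RingHom.Flat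
import Mathlib.RingTheory.Flat.FaithfullyFlat.Algebra
import Mathlib.LinearAlgebra.TensorProduct.Pi

/-!
# Proper covers: the adic topology of the base is induced by the pieces
-/

set_option autoImplicit false
set_option backward.isDefEq.respectTransparency false
set_option linter.style.haveILetI false

universe u

open CategoryTheory CategoryTheory.Limits AlgebraicGeometry TopologicalSpace IsLocalRing
open scoped TensorProduct

namespace Groth.Agent.EGA43.ProperInj

/-- A proper scheme over `A` covered by finitely many affine pieces. -/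
structure ProperCover (A : Type u) [CommRing A] {ι : Type u} (B : ι → Type u) [∀ i, CommRing (B i)]
    [∀ i, Algebra A (B i)] where
  T : Scheme.{u}
  g : T ⟶ Spec (CommRingCat.of A)
  proper : IsProper g
  j : ∀ i, Spec (CommRingCat.of (B i)) ⟶ T
  isOpen : ∀ i, IsOpenImmersion (j i)
  hj : ∀ i, j i ≫ g = Spec.map (CommRingCat.ofHom (algebraMap A (B i)))
  cover : ∀ t : T, ∃ i, t ∈ Set.range (j i)

/-- The pieces of a cover pull back along a cartesian square. -/
theorem exists_pieces_of_isPullback {A : Type u} [CommRing A] {ι : Type u} {B : ι → Type u}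
    [∀ i, CommRing (B i)] [∀ i, Algebra A (B i)] {T₀ : Scheme.{u}} (g₀ : T₀ ⟶ Spec (CommRingCat.of A))
    (j : ∀ i, Spec (CommRingCat.of (B i)) ⟶ T₀) (hopen : ∀ i, IsOpenImmersion (j i))
    (hj : ∀ i, j i ≫ g₀ = Spec.map (CommRingCat.ofHom (algebraMap A (B i))))
    (cover : ∀ t : T₀, ∃ i, t ∈ Set.range (j i))
    (A' : Type u) [CommRing A'] [Algebra A A'] {T : Scheme.{u}} (a : T ⟶ T₀) (g : T ⟶ Spec (CommRingCat.of A'))
    (sq : IsPullback a g g₀ (Spec.map (CommRingCat.ofHom (algebraMap A A')))) :
    ∃ j' : ∀ i, Spec (CommRingCat.of (A' ⊗[A] B i)) ⟶ T, (∀ i, IsOpenImmersion (j' i)) ∧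
      (∀ i, j' i ≫ g = Spec.map (CommRingCat.ofHom (algebraMap A' (A' ⊗[A] B i)))) ∧
      ∀ t : T, ∃ i, t ∈ Set.range (j' i) := by
  let σ : Spec (CommRingCat.of A') ⟶ Spec (CommRingCat.of A) := Spec.map (CommRingCat.ofHom (algebraMap A A'))
  let q : ∀ i, Spec (CommRingCat.of (A' ⊗[A] B i)) ⟶ Spec (CommRingCat.of (B i)) := fun i =>
    Spec.map (CommRingCat.ofHom Algebra.TensorProduct.includeRight.toRingHom)
  let p : ∀ i, Spec (CommRingCat.of (A' ⊗[A] B i)) ⟶ Spec (CommRingCat.of A') := fun i =>
    Spec.map (CommRingCat.ofHom (algebraMap A' (A' ⊗[A] B i)))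
  have hsq : ∀ i, IsPullback (p i) (q i) σ (j i ≫ g₀) := fun i => by
    have h := isPullback_SpecMap_of_isPushout
      (CommRingCat.ofHom (algebraMap A A')) (CommRingCat.ofHom (algebraMap A (B i))) _ _
      (CommRingCat.isPushout_tensorProduct A A' (B i))
    rw [hj i]
    exact h
  let j' : ∀ i, Spec (CommRingCat.of (A' ⊗[A] B i)) ⟶ T := fun i =>
    sq.lift (q i ≫ j i) (p i) (by rw [Category.assoc]; exact (hsq i).w.symm)
  have hj' : ∀ i, IsPullback (q i) (j' i) (j i) a := fun i => by
    refine IsPullback.of_bot ?_ (sq.lift_fst _ _ _).symm sq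
    rw [sq.lift_snd]
    exact (hsq i).flip
  refine ⟨j', fun i => MorphismProperty.of_isPullback (P := @IsOpenImmersion) (hj' i) (hopen i),
    fun i => sq.lift_snd _ _ _, fun t => ?_⟩
  obtain ⟨i, b, hb⟩ := cover (a t)
  obtain ⟨w, -, hw⟩ := Scheme.exists_preimage_of_isPullback (hj' i) b t hb
  exact ⟨i, w, hw⟩

/-- A proper cover pulls back along any ring map. -/
theorem ProperCover.nonempty_baseChange {A : Type u} [CommRing A] {ι : Type u} {B : ι → Type u}
    [∀ i, CommRing (B i)] [∀ i, Algebra A (B i)] (c : ProperCover A B) (A' : Type u) [CommRing A'] [Algebra A A'] :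
    Nonempty (ProperCover A' (fun i => A' ⊗[A] B i)) := by
  obtain ⟨j', h1, h2, h3⟩ := exists_pieces_of_isPullback c.g c.j c.isOpen c.hj c.cover A'
    (pullback.fst c.g (Spec.map (CommRingCat.ofHom (algebraMap A A')))) (pullback.snd _ _)
    (IsPullback.of_hasPullback _ _)
  exact ⟨⟨_, pullback.snd _ _, MorphismProperty.pullback_snd _ _ c.proper, j', h1, h2, h3⟩⟩

theorem mem_maximal_pow_stalk {R B : Type u} [CommRing R] [CommRing B] [Algebra R B] (I : Ideal R)
    (q : PrimeSpectrum B) (hq : I.map (algebraMap R B) ≤ q.asIdeal) {a : B} {k : ℕ}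
    (ha : a ∈ (I ^ k).map (algebraMap R B)) :
    algebraMap B (Localization.AtPrime q.asIdeal) a ∈ maximalIdeal (Localization.AtPrime q.asIdeal) ^ k := by
  rw [← Localization.AtPrime.map_eq_maximalIdeal, ← Ideal.map_pow]
  exact Ideal.mem_map_of_mem _ (Ideal.pow_right_mono hq k (by rwa [← Ideal.map_pow]))

/-- Over a local ring, an element in all powers of the maximal ideal on every piece vanishes on every piece. -/
theorem ProperCover.map_eq_zero {R : Type u} [CommRing R] [IsLocalRing R] {ι : Type u} {B : ι → Type u}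
    [∀ i, CommRing (B i)] [∀ i, Algebra R (B i)] [∀ i, IsNoetherianRing (B i)] (c : ProperCover R B) (a : R)
    (ha : ∀ i k, algebraMap R (B i) a ∈ (maximalIdeal R ^ k).map (algebraMap R (B i))) (i : ι) :
    algebraMap R (B i) a = 0 := by
  haveI := c.proper
  let σ : Γ(c.T, ⊤) := c.g.appTop ((Scheme.ΓSpecIso (CommRingCat.of R)).inv a)
  have hσ : ∀ i, (c.j i).appTop σ = (Scheme.ΓSpecIso (CommRingCat.of (B i))).inv (algebraMap R (B i) a) := by
    intro i
    haveI := c.isOpen i
    show (c.g.appTop ≫ (c.j i).appTop) _ = _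
    rw [← Scheme.Hom.comp_appTop, c.hj i]
    exact (ConcreteCategory.congr_hom (Scheme.ΓSpecIso_inv_naturality (CommRingCat.ofHom (algebraMap R (B i)))) a).symm
  suffices h : ∀ t : c.T, c.T.presheaf.germ ⊤ t trivial σ = 0 by
    have h0 : σ = 0 := TopCat.Presheaf.section_ext c.T.sheaf ⊤ _ _ fun t ht => by
      rw [map_zero]; exact h t
    have h1 := hσ i
    rw [h0, map_zero] at h1
    refine (ConcreteCategory.bijective_of_isIso (Scheme.ΓSpecIso (CommRingCat.of (B i))).inv).1 ?_
    rw [map_zero]
    exact h1.symm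
  intro t
  -- a closed point in the closure of `t`
  obtain ⟨t', htt', ht'⟩ : ∃ t', t ⤳ t' ∧ c.g t' = closedPoint R := by
    have hcl : IsClosed (c.g '' closure {t}) := c.g.isClosedMap _ isClosed_closure
    have hmem : closedPoint R ∈ c.g '' closure {t} := by
      refine (IsLocalRing.specializes_closedPoint (c.g t)).mem_closed hcl ?_
      exact ⟨t, subset_closure rfl, rfl⟩
    obtain ⟨t', h1, h2⟩ := hmem
    exact ⟨t', specializes_iff_mem_closure.2 h1, h2⟩
  suffices h : c.T.presheaf.germ ⊤ t' trivial σ = 0 by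
    rw [← TopCat.Presheaf.germ_stalkSpecializes c.T.presheaf (U := ⊤) trivial htt', ConcreteCategory.comp_apply, h,
      map_zero]
  obtain ⟨l, q, rfl⟩ := c.cover t'
  haveI := c.isOpen l
  refine (ConcreteCategory.bijective_of_isIso ((c.j l).stalkMap q)).1 ?_
  rw [map_zero, Scheme.Hom.germ_stalkMap_apply]
  show (Spec (CommRingCat.of (B l))).presheaf.germ ⊤ q trivial ((c.j l).appTop σ) = 0
  rw [hσ l]
  have hq : (maximalIdeal R).map (algebraMap R (B l)) ≤ q.asIdeal := by
    rw [Ideal.map_le_iff_le_comap]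
    refine le_of_eq ?_
    have h1 : (Spec.map (CommRingCat.ofHom (algebraMap R (B l)))) q = closedPoint R := by
      rw [← c.hj l, Scheme.Hom.comp_apply, ht']
    exact (congrArg PrimeSpectrum.asIdeal h1).symm
  have hzero : algebraMap (B l) (Localization.AtPrime q.asIdeal) (algebraMap R (B l) a) = 0 := by
    have h1 : algebraMap (B l) (Localization.AtPrime q.asIdeal) (algebraMap R (B l) a) ∈
        ⨅ k : ℕ, maximalIdeal (Localization.AtPrime q.asIdeal) ^ k :=
      (Submodule.mem_iInf _).2 fun k => mem_maximal_pow_stalk _ q hq (ha l k)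
    haveI : IsNoetherianRing (Localization.AtPrime q.asIdeal) :=
      IsLocalization.isNoetherianRing q.asIdeal.primeCompl _ inferInstance
    rwa [Ideal.iInf_pow_eq_bot_of_isLocalRing _ (maximalIdeal.isMaximal _).ne_top, Ideal.mem_bot] at h1
  obtain ⟨r, hr⟩ := (IsLocalization.map_eq_zero_iff q.asIdeal.primeCompl _ _).1 hzero
  have hu : IsUnit ((Spec (CommRingCat.of (B l))).presheaf.germ ⊤ q trivial
      ((Scheme.ΓSpecIso (CommRingCat.of (B l))).inv r.1)) := by
    have : q ∈ (Spec (CommRingCat.of (B l))).basicOpen ((Scheme.ΓSpecIso (CommRingCat.of (B l))).inv r.1) := by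
      rw [basicOpen_eq_of_affine]
      exact r.2
    exact ((Spec (CommRingCat.of (B l))).mem_basicOpen_top _ q).1 this
  refine hu.mul_right_eq_zero.1 ?_
  rw [← map_mul, ← map_mul]
  show _ = (0 : _)
  rw [show r.1 * (algebraMap R (B l) a) = 0 from hr, map_zero, map_zero]

/-- The pieces of a proper cover with injective total map induce the adic topology. -/
theorem ProperCover.exists_pow {A : Type u} [CommRing A] [IsNoetherianRing A] [IsLocalRing A] {ι : Type u}
    [Finite ι] {B : ι → Type u} [∀ i, CommRing (B i)] [∀ i, Algebra A (B i)] [∀ i, Algebra.FiniteType A (B i)]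
    (c : ProperCover A B) (hinj : ∀ a : A, (∀ i, algebraMap A (B i) a = 0) → a = 0) (N : ℕ) :
    ∃ k, ∀ a : A, (∀ i, algebraMap A (B i) a ∈ (maximalIdeal A ^ k).map (algebraMap A (B i))) →
      a ∈ maximalIdeal A ^ N := by
  classical
  cases nonempty_fintype ι
  let R := AdicCompletion (maximalIdeal A) A
  obtain ⟨c'⟩ := c.nonempty_baseChange R
  haveI : IsNoetherianRing R := Matlis6.isNoetherianRing_adicCompletion _
  haveI : ∀ i, IsNoetherianRing (R ⊗[A] B i) := fun i => Algebra.FiniteType.isNoetherianRing R _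
  haveI : IsPrecomplete (maximalIdeal R) R := inferInstance
  let K : ℕ → Ideal R := fun k => ⨅ i, ((maximalIdeal R ^ k).map (algebraMap R (R ⊗[A] B i))).comap
    (algebraMap R (R ⊗[A] B i))
  have hanti : Antitone K := fun a b hab => iInf_mono fun i =>
    Ideal.comap_mono (Ideal.map_mono (Ideal.pow_le_pow_right hab))
  have hinj' : ∀ r : R, (∀ i, algebraMap R (R ⊗[A] B i) r = 0) → r = 0 := by
    intro r hr
    let φ : A →ₗ[A] ∀ i, B i := LinearMap.pi fun i => Algebra.linearMap A (B i)
    have hφ : Function.Injective φ := (injective_iff_map_eq_zero φ).2 fun a ha => hinj a fun i => congrFun ha i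
    have h1 := Module.Flat.lTensor_preserves_injective_linearMap (M := R) φ hφ
    have h2 : LinearMap.lTensor R φ (r ⊗ₜ[A] (1 : A)) = 0 := by
      refine (TensorProduct.piRight A A R B).injective ?_
      rw [map_zero]
      funext i
      rw [LinearMap.lTensor_tmul, TensorProduct.piRight_apply, TensorProduct.piRightHom_tmul]
      show r ⊗ₜ[A] (algebraMap A (B i) 1) = 0
      rw [map_one, ← hr i, Algebra.TensorProduct.algebraMap_apply]
      rfl
    have h3 : r ⊗ₜ[A] (1 : A) = 0 := h1 (by rw [h2, map_zero])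
    simpa using congrArg (TensorProduct.rid A R) h3
  have hK : ⨅ k, K k = ⊥ := by
    refine le_bot_iff.1 fun r hr => ?_
    rw [Submodule.mem_iInf] at hr
    exact hinj' r fun i => c'.map_eq_zero r (fun l k => (Submodule.mem_iInf _).1 (hr k) l) i
  have hpow : ∀ k, ∃ M, maximalIdeal R ^ M ≤ K k := fun k =>
    ⟨k, le_iInf fun i => Ideal.le_comap_map⟩
  obtain ⟨k, hk⟩ := Schless.chevalley K hanti hK hpow N
  refine ⟨k, fun a ha => ?_⟩
  have h1 : algebraMap A R a ∈ K k := (Submodule.mem_iInf _).2 fun i => by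
    rw [Ideal.mem_comap, ← IsScalarTower.algebraMap_apply A R (R ⊗[A] B i), AdicCompletion.maximalIdeal_eq_map,
      ← Ideal.map_pow, Ideal.map_map, ← IsScalarTower.algebraMap_eq A R (R ⊗[A] B i)]
    have h2 := Ideal.mem_map_of_mem (Algebra.TensorProduct.includeRight (R := A) (A := R) (B := B i)).toRingHom (ha i)
    rw [Ideal.map_map] at h2
    simpa using h2
  have h3 := hk h1
  rw [AdicCompletion.maximalIdeal_eq_map, ← Ideal.map_pow] at h3
  haveI : Module.FaithfullyFlat A R := Module.FaithfullyFlat.of_flat_of_isLocalHom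
  rw [← Ideal.comap_map_eq_self_of_faithfullyFlat (B := R) (maximalIdeal A ^ N)]
  exact h3

end Groth.Agent.EGA43.ProperInj
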