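import Groth.Agent.EGA43.ProperInj.Noetherian
import Groth.Agent.EGA43.FlatDescent.Main

/-!
# Flatness descends along injective proper morphisms: passage to a Noetherian stage
-/

set_option autoImplicit false
set_option backward.isDefEq.respectTransparency false
set_option linter.style.haveILetI false

universe u

open scoped TensorProduct

namespace Groth.Agent.EGA43.ProperInj

/-- A finitely presented algebra mapping to `A ⊗ N` maps to `A₁ ⊗ N` for a finitely generated `A₁ ⊆ A`. -/
theorem exists_lift_tensor {R A N K : Type u} [CommRing R] [CommRing A] [Algebra R A] [CommRing N] [Algebra R N]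
    [CommRing K] [Algebra R K] [Algebra.FinitePresentation R K] (φ : K →ₐ[R] A ⊗[R] N) :
    ∃ A₁ : Subalgebra R A, A₁.FG ∧ Nonempty (K →ₐ[R] A₁ ⊗[R] N) := by
  classical
  obtain ⟨n, π, hπ, s, hs⟩ := ‹Algebra.FinitePresentation R K›.out
  let e {B C : Subalgebra R A} (h : B ≤ C) : B ⊗[R] N →ₐ[R] C ⊗[R] N :=
    Algebra.TensorProduct.map (Subalgebra.inclusion h) (AlgHom.id R N)
  let v (B : Subalgebra R A) : B ⊗[R] N →ₐ[R] A ⊗[R] N := Algebra.TensorProduct.map B.val (AlgHom.id R N)
  have hv : ∀ (B : Subalgebra R A) z, B.val.toLinearMap.rTensor N z = v B z := fun B z => by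
    induction z using TensorProduct.induction_on with
    | zero => simp
    | add a b ha hb => simp only [map_add, ha, hb]
    | tmul a b => rfl
  have he : ∀ {B C : Subalgebra R A} (h : B ≤ C) z, (Subalgebra.inclusion h).toLinearMap.rTensor N z = e h z :=
    fun h z => by
      induction z using TensorProduct.induction_on with
      | zero => simp
      | add a b ha hb => simp only [map_add, ha, hb]
      | tmul a b => rfl
  choose Bk hBk yk hyk using fun k => TensorProduct.Algebra.exists_of_fg (φ (π (MvPolynomial.X k)))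
  let C : Subalgebra R A := Finset.univ.sup Bk
  have hC : C.FG := Finset.sup_induction Subalgebra.fg_bot (fun a ha b hb => Subalgebra.FG.sup ha hb) fun k _ => hBk k
  have hBC : ∀ k, Bk k ≤ C := fun k => Finset.le_sup (Finset.mem_univ k)
  let ev : MvPolynomial (Fin n) R →ₐ[R] C ⊗[R] N := MvPolynomial.aeval fun k => e (hBC k) (yk k)
  have hev : ∀ p, v C (ev p) = φ (π p) := fun p => AlgHom.congr_fun (show (v C).comp ev = φ.comp π from
    MvPolynomial.algHom_ext fun k => by
      simp only [AlgHom.comp_apply, ev, MvPolynomial.aeval_X, v, e, ← Algebra.TensorProduct.map_comp,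
        AlgHom.id_comp]
      rw [← hyk k, hv]
      simp only [v, ← AlgHom.comp_apply, ← Algebra.TensorProduct.map_comp, AlgHom.id_comp]
      rfl) p
  choose D hCD hD hD0 using fun p : s => TensorProduct.Algebra.eq_of_fg_of_subtype_eq hC (t := ev p) (t' := 0) (by
    have : (p : MvPolynomial (Fin n) R) ∈ RingHom.ker π.toRingHom := hs ▸ Ideal.subset_span p.2
    rw [hv, hev, show π (p : MvPolynomial (Fin n) R) = 0 from this, map_zero, map_zero])
  let D' : Subalgebra R A := C ⊔ Finset.univ.sup D
  have hD' : D'.FG := Subalgebra.FG.sup hC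
    (Finset.sup_induction Subalgebra.fg_bot (fun a ha b hb => Subalgebra.FG.sup ha hb) fun p _ => hD p)
  let ev' : MvPolynomial (Fin n) R →ₐ[R] D' ⊗[R] N := (e (le_sup_left : C ≤ D')).comp ev
  have hker : RingHom.ker π.toRingHom ≤ RingHom.ker ev'.toRingHom := by
    rw [← hs, Ideal.span_le]
    intro p hp
    have hle : D ⟨p, hp⟩ ≤ D' := (Finset.le_sup (Finset.mem_univ _)).trans le_sup_right
    show e (le_sup_left : C ≤ D') (ev p) = 0
    have h0 : e (hCD ⟨p, hp⟩) (ev p) = 0 := by rw [← he, hD0, map_zero]
    have h1 : e (le_sup_left : C ≤ D') (ev p) = e hle (e (hCD ⟨p, hp⟩) (ev p)) := by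
      generalize ev p = z
      induction z using TensorProduct.induction_on with
      | zero => exact ((map_zero _).trans (map_zero _).symm).trans (congrArg _ (map_zero _).symm)
      | add a b ha hb => simp only [map_add, ha, hb]
      | tmul a b => rfl
    rw [h1, h0, map_zero]
  exact ⟨D', hD', ⟨AlgHom.liftOfSurjective π hπ ev' hker⟩⟩

attribute [local instance] FlatDescent.bcModule

/-- Flatness of a module defined over a Noetherian ring descends along an injective proper cover. -/
theorem flat_of_stage {R A P M : Type u} [CommRing R] [IsNoetherianRing R] [CommRing A] [Algebra R A]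
    [CommRing P] [Algebra R P] [Algebra.FiniteType R P] [AddCommGroup M] [Module R M] [Module P M]
    [IsScalarTower R P M] [Module.Finite P M] {ι : Type u} [Finite ι] (B : ι → Type u) [∀ i, CommRing (B i)]
    [∀ i, Algebra R (B i)] [∀ i, Algebra.FiniteType R (B i)] (c : ProperCover R B)
    (hinj : ∀ a : A, (∀ i, algebraMap A (A ⊗[R] B i) a = 0) → a = 0)
    (hflat : ∀ i, Module.Flat (A ⊗[R] B i) ((A ⊗[R] B i) ⊗[R] M)) :
    Module.Flat A (A ⊗[R] M) := by
  classical
  cases nonempty_fintype ι
  choose K hK hKflat using fun i =>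
    haveI := hflat i
    FlatDescent.exists_stage_flat (R := R) P (M := M) (A := A ⊗[R] B i)
  haveI : ∀ i, Algebra.FinitePresentation R (K i) := fun i =>
    haveI : Algebra.FiniteType R (K i) := (K i).fg_iff_finiteType.1 (hK i)
    Algebra.FinitePresentation.of_finiteType.1 inferInstance
  choose A' hA' φ using fun i => exists_lift_tensor (K i).val
  let A₁ : Subalgebra R A := Finset.univ.sup A'
  have hA₁ : A₁.FG := Finset.sup_induction Subalgebra.fg_bot (fun a ha b hb => Subalgebra.FG.sup ha hb) fun i _ => hA' i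
  haveI : IsNoetherianRing A₁ := FlatDescent.isNoetherianRing_of_fg hA₁
  haveI : Algebra.FiniteType A₁ (A₁ ⊗[R] P) := Algebra.FiniteType.baseChange (A := P) A₁
  haveI : Module.Finite (A₁ ⊗[R] P) (A₁ ⊗[R] M) := FlatDescent.finite_bc R P M A₁
  haveI : ∀ i, Algebra.FiniteType A₁ (A₁ ⊗[R] B i) := fun i => Algebra.FiniteType.baseChange (A := B i) A₁
  obtain ⟨c₁⟩ := c.nonempty_baseChange A₁
  have h : Module.Flat A₁ (A₁ ⊗[R] M) := by
    refine flat_of_noetherian (C := A₁ ⊗[R] P) (A₁ ⊗[R] M) (fun i => A₁ ⊗[R] B i) c₁ (fun a ha => ?_) fun i => ?_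
    · refine Subtype.ext (hinj a fun i => ?_)
      have h1 := congrArg (Algebra.TensorProduct.map A₁.val (AlgHom.id R (B i))) (ha i)
      rw [map_zero, Algebra.TensorProduct.algebraMap_apply, Algebra.TensorProduct.map_tmul, map_one] at h1
      rw [Algebra.TensorProduct.algebraMap_apply]
      exact h1
    · obtain ⟨ψ⟩ := φ i
      let θ : K i →ₐ[R] A₁ ⊗[R] B i :=
        (Algebra.TensorProduct.map (Subalgebra.inclusion (Finset.le_sup (Finset.mem_univ i))) (AlgHom.id R (B i))).comp ψ
      letI : Algebra (K i) (A₁ ⊗[R] B i) := θ.toRingHom.toAlgebra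
      haveI : IsScalarTower R (K i) (A₁ ⊗[R] B i) := .of_algebraMap_eq fun r => (θ.commutes r).symm
      haveI := hKflat i
      exact Module.Flat.of_linearEquiv
        (TensorProduct.AlgebraTensorModule.cancelBaseChange R A₁ (A₁ ⊗[R] B i) (A₁ ⊗[R] B i) M ≪≫ₗ
          (TensorProduct.AlgebraTensorModule.cancelBaseChange R (K i) (A₁ ⊗[R] B i) (A₁ ⊗[R] B i) M).symm)
  exact Module.Flat.of_linearEquiv
    (TensorProduct.AlgebraTensorModule.cancelBaseChange R A₁ A A M).symm

end Groth.Agent.EGA43.ProperInj
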