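import Groth.Agent.EGA43.ProperInj.Bridge
import Groth.Agent.EGA43.FibDepth.Unit
import Groth.Agent.EGA43.DvrCrit.Structure
import Groth.Agent.Coherent.FinitePres

/-!
# EGA IV 11.5.3: flatness descends along injective integral ring maps
-/

set_option autoImplicit false
set_option backward.isDefEq.respectTransparency false
set_option linter.style.haveILetI false

universe u

open CategoryTheory CategoryTheory.Limits AlgebraicGeometry TopologicalSpace Opposite
open scoped TensorProduct

namespace Groth.Agent.EGA43.ProperInj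

/-- A finitely presented algebra mapping to an integral algebra factors through a finite, finitely
presented one. -/
theorem exists_finite_fp_factor {R A A' K : Type u} [CommRing R] [CommRing A] [CommRing A'] [CommRing K]
    [Algebra R A] [Algebra R A'] [Algebra A A'] [IsScalarTower R A A'] [Algebra R K]
    [Algebra.FinitePresentation R K] [Algebra.IsIntegral A A'] (φ : K →ₐ[R] A') :
    ∃ (C : Type u) (_ : CommRing C) (_ : Algebra A C)
      (_ : Module.Finite A C) (_ : Algebra.FinitePresentation A C) (_ : C →ₐ[A] A') (κ : K →+* C),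
      ∀ r, κ (algebraMap R K r) = algebraMap A C (algebraMap R A r) := by
  classical
  obtain ⟨n, π, hπ, s, hs⟩ := ‹Algebra.FinitePresentation R K›.out
  let a : Fin n → A' := fun k => φ (π (MvPolynomial.X k))
  choose m hmonic hroot using fun k => Algebra.IsIntegral.isIntegral (R := A) (a k)
  let T : Finset (MvPolynomial (Fin n) A) :=
    Finset.univ.image (fun k => Polynomial.aeval (MvPolynomial.X k : MvPolynomial (Fin n) A) (m k)) ∪
      s.image (MvPolynomial.map (algebraMap R A))
  let J : Ideal (MvPolynomial (Fin n) A) := Ideal.span (T : Set (MvPolynomial (Fin n) A))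
  let C := MvPolynomial (Fin n) A ⧸ J
  haveI : Algebra.FinitePresentation A C := Algebra.FinitePresentation.quotient (Submodule.fg_span T.finite_toSet)
  have hint : ∀ k, IsIntegral A (Ideal.Quotient.mkₐ A J (MvPolynomial.X k)) := fun k => by
    refine ⟨m k, hmonic k, ?_⟩
    rw [← Polynomial.aeval_def, Polynomial.aeval_algHom_apply, Ideal.Quotient.mkₐ_eq_mk, Ideal.Quotient.eq_zero_iff_mem]
    exact Ideal.subset_span (Finset.mem_coe.2 (Finset.mem_union_left _ (Finset.mem_image_of_mem _ (Finset.mem_univ k))))
  haveI : Algebra.IsIntegral A C := ⟨fun c => by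
    obtain ⟨p, rfl⟩ := Ideal.Quotient.mk_surjective c
    show IsIntegral A (Ideal.Quotient.mkₐ A J p)
    induction p using MvPolynomial.induction_on with
    | C r => rw [← MvPolynomial.algebraMap_eq, AlgHom.commutes]; exact isIntegral_algebraMap
    | add p q hp hq => rw [map_add]; exact hp.add hq
    | mul_X p k hp => rw [map_mul]; exact hp.mul (hint k)⟩
  haveI : Algebra.FiniteType A C := inferInstance
  haveI : Module.Finite A C := Algebra.IsIntegral.finite
  have hev : ∀ p : MvPolynomial (Fin n) R,
      MvPolynomial.aeval a (MvPolynomial.map (algebraMap R A) p) = φ (π p) := fun p => by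
    rw [MvPolynomial.aeval_map_algebraMap]
    exact (AlgHom.congr_fun (MvPolynomial.aeval_unique (φ.comp π)) p).symm
  have hJ : J ≤ RingHom.ker (MvPolynomial.aeval a : MvPolynomial (Fin n) A →ₐ[A] A') := by
    rw [Ideal.span_le]
    intro p hp
    rcases Finset.mem_union.1 (Finset.mem_coe.1 hp) with hp | hp
    · obtain ⟨k, -, rfl⟩ := Finset.mem_image.1 hp
      show MvPolynomial.aeval a (Polynomial.aeval (MvPolynomial.X k : MvPolynomial (Fin n) A) (m k)) = 0
      rw [← Polynomial.aeval_algHom_apply, MvPolynomial.aeval_X, Polynomial.aeval_def]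
      exact hroot k
    · obtain ⟨q, hq, rfl⟩ := Finset.mem_image.1 hp
      show MvPolynomial.aeval a (MvPolynomial.map (algebraMap R A) q) = 0
      have : q ∈ RingHom.ker π.toRingHom := hs ▸ Ideal.subset_span hq
      rw [hev, show π q = 0 from this, map_zero]
  let ev : MvPolynomial (Fin n) R →ₐ[R] C :=
    ((Ideal.Quotient.mkₐ A J).restrictScalars R).comp
      (MvPolynomial.aeval fun k => (MvPolynomial.X k : MvPolynomial (Fin n) A))
  have hevmap : ∀ q, ev q = Ideal.Quotient.mkₐ A J (MvPolynomial.map (algebraMap R A) q) := fun q => by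
    show Ideal.Quotient.mkₐ A J (MvPolynomial.aeval (fun k => (MvPolynomial.X k : MvPolynomial (Fin n) A)) q) = _
    rw [← MvPolynomial.aeval_map_algebraMap A, MvPolynomial.aeval_X_left_apply]
  have hker : RingHom.ker π.toRingHom ≤ RingHom.ker ev.toRingHom := by
    rw [← hs, Ideal.span_le]
    intro q hq
    show ev q = 0
    rw [hevmap, Ideal.Quotient.mkₐ_eq_mk, Ideal.Quotient.eq_zero_iff_mem]
    exact Ideal.subset_span (Finset.mem_coe.2 (Finset.mem_union_right _ (Finset.mem_image_of_mem _ hq)))
  exact ⟨C, inferInstance, inferInstance, inferInstance, inferInstance,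
    Ideal.Quotient.liftₐ J (MvPolynomial.aeval a) fun p hp => hJ hp,
    (AlgHom.liftOfSurjective π hπ ev hker).toRingHom, fun r => AlgHom.commutes _ r⟩

/-- Flatness at a localisation descends along an injective integral algebra. -/
theorem flat_of_integral {A A' P : Type u} [CommRing A] [CommRing A'] [Algebra A A'] [Algebra.IsIntegral A A']
    (hinj : Function.Injective (algebraMap A A')) [CommRing P] [Algebra A P] [Algebra.FinitePresentation A P]
    (M : Type u) [AddCommGroup M] [Module A M] [Module P M] [IsScalarTower A P M] [Module.FinitePresentation P M]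
    [Module.Flat A' (A' ⊗[A] M)] (p : Ideal A) [p.IsPrime] :
    Module.Flat (Localization.AtPrime p) (Localization.AtPrime p ⊗[A] M) := by
  obtain ⟨R₀, hR₀, P₀, M₀, _, _, _, _, _, _, _, _, ψ, e, -, -⟩ :=
    FlatDescent.exists_model_of_finitePresentation (A := A) (S := P) (N := M)
  haveI : IsNoetherianRing R₀ := hR₀
  let E : A' ⊗[R₀] M₀ ≃ₗ[A'] A' ⊗[A] M :=
    (TensorProduct.AlgebraTensorModule.cancelBaseChange R₀ A A' A' M₀).symm ≪≫ₗ
      TensorProduct.AlgebraTensorModule.congr (LinearEquiv.refl A' A') e
  haveI : Module.Flat A' (A' ⊗[R₀] M₀) := Module.Flat.of_linearEquiv E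
  obtain ⟨K, hK, hKflat⟩ := FlatDescent.exists_stage_flat (R := R₀) P₀ (M := M₀) (A := A')
  haveI : Algebra.FiniteType R₀ K := K.fg_iff_finiteType.1 hK
  haveI : Algebra.FinitePresentation R₀ K := Algebra.FinitePresentation.of_finiteType.1 inferInstance
  obtain ⟨C, _, _, _, _, γ, κ, hκ⟩ := exists_finite_fp_factor (A := A) K.val
  letI : Algebra K C := κ.toAlgebra
  haveI : IsScalarTower R₀ K C := .of_algebraMap_eq fun r => (hκ r).symm
  haveI : Module.Flat C (C ⊗[A] M) := Module.Flat.of_linearEquiv
    ((TensorProduct.AlgebraTensorModule.congr (LinearEquiv.refl C C) e).symm ≪≫ₗ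
      TensorProduct.AlgebraTensorModule.cancelBaseChange R₀ A C C M₀ ≪≫ₗ
        (TensorProduct.AlgebraTensorModule.cancelBaseChange R₀ K C C M₀).symm)
  let g : Spec (CommRingCat.of C) ⟶ Spec (CommRingCat.of A) := Spec.map (CommRingCat.ofHom (algebraMap A C))
  haveI : IsFinite g := (IsFinite.SpecMap_iff _).2 (RingHom.finite_algebraMap.2 inferInstance)
  haveI : LocallyOfFinitePresentation g := HasRingHomProperty.Spec_iff.2 (RingHom.finitePresentation_algebraMap.2 inferInstance)
  refine flat_of_proper_at (C := P) M g p (fun a ha => ?_) fun B _ _ j _ hjg => ?_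
  · have h0 := ha C (𝟙 _) inferInstance (Category.id_comp _)
    have h1 : a = 0 := hinj (by rw [map_zero, ← γ.commutes, h0, map_zero])
    rw [h1, map_zero]
  · let τ : CommRingCat.of C ⟶ CommRingCat.of B := Spec.preimage j
    have hτ : CommRingCat.ofHom (algebraMap A C) ≫ τ = CommRingCat.ofHom (algebraMap A B) :=
      Spec.map_injective (by rw [Spec.map_comp, Spec.map_preimage]; exact hjg)
    letI : Algebra C B := τ.hom.toAlgebra
    haveI : IsScalarTower A C B := .of_algebraMap_eq fun a => (ConcreteCategory.congr_hom hτ a).symm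
    exact Module.Flat.of_linearEquiv (TensorProduct.AlgebraTensorModule.cancelBaseChange A C B B M).symm

/-- **EGA IV 11.5.3** -/
theorem flat_stalkMap_of_integral {A A' : Type u} [CommRing A] [CommRing A'] [Algebra A A']
    [Algebra.IsIntegral A A'] (hinj : Function.Injective (algebraMap A A'))
    {X : Scheme.{u}} (f : X ⟶ Spec (CommRingCat.of A)) [LocallyOfFinitePresentation f] (x : X)
    (h : ∀ x' : ↥(pullback f (Spec.map (CommRingCat.ofHom (algebraMap A A')))),
      (pullback.fst f _).base x' = x →
      ((pullback.snd f (Spec.map (CommRingCat.ofHom (algebraMap A A')))).stalkMap x').hom.Flat) :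
    (f.stalkMap x).hom.Flat := by
  let g : Spec (CommRingCat.of A') ⟶ Spec (CommRingCat.of A) := Spec.map (CommRingCat.ofHom (algebraMap A A'))
  haveI : IsIntegralHom g := IsIntegralHom.SpecMap_iff.2 (algebraMap_isIntegral_iff.2 inferInstance)
  haveI : UniversallyClosed (pullback.fst f g) := MorphismProperty.pullback_fst _ _ inferInstance
  haveI : LocallyOfFinitePresentation (pullback.snd f g) :=
    MorphismProperty.pullback_snd (P := @LocallyOfFinitePresentation.{u}) _ _ ‹_›
  haveI : Coh.IsQCoh (Coh.structureModule X) := Coherent.isQCoh_structureModule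
  haveI := InjFibre.isQCoh_pullback (pullback.fst f g) (Coh.structureModule X)
  have hbad : IsClosed (pullback.fst f g '' {z : ↥(pullback f g) | FlatMod.IsFlatOverAt (pullback.snd f g)
      ((Scheme.Modules.pullback (pullback.fst f g)).obj (Coh.structureModule X)) z}ᶜ) :=
    (pullback.fst f g).isClosedMap _ (QcohFlat.isOpen_setOf_isFlatOverAt _ _
      (Desc19b.ModStFib.isFP_pullback _ _ (FibDepth.isFP_structureModule X))).isClosed_compl
  obtain ⟨U, hU, hxU, hUle⟩ := exists_isAffineOpen_mem_and_subset (x := x)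
    (U := ⟨_, hbad.isOpen_compl⟩)
    fun ⟨z, hz, hzx⟩ => hz ((DvrCrit.isFlatOverAt_pullback_structureModule _ _ z).2 (h z hzx))
  have hT : IsAffineOpen (⊤ : (Spec (CommRingCat.of A)).Opens) := isAffineOpen_top _
  have hT' : IsAffineOpen (⊤ : (Spec (CommRingCat.of A')).Opens) := isAffineOpen_top _
  have hgood := (flat_piece_iff_general f (Coh.structureModule X) g hU hT hT' le_top le_top).1 fun z hz _ => by
    by_contra hc
    exact hUle hz ⟨z, hc, rfl⟩
  rw [← FibDepth.isFlatOverAt_structureModule, QcohFlat.isFlatOverAt_iff f _ hT hU le_top hxU]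
  letI := (g.appLE ⊤ ⊤ le_top).hom.toAlgebra
  letI := (f.appLE ⊤ U le_top).hom.toAlgebra
  letI := QcohFlat.overModule f (Coh.structureModule X) ⊤ U le_top
  haveI : IsScalarTower Γ(Spec (CommRingCat.of A), ⊤) Γ(X, U) Γ(Coh.structureModule X, U) :=
    IsScalarTower.of_algebraMap_smul fun _ _ => rfl
  haveI : Algebra.FinitePresentation Γ(Spec (CommRingCat.of A), ⊤) Γ(X, U) :=
    HasRingHomProperty.appLE @LocallyOfFinitePresentation f inferInstance ⟨⊤, hT⟩ ⟨U, hU⟩ le_top
  haveI := QcohFP.finitePresentation_sections _ (FibDepth.isFP_structureModule X) hU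
  haveI := hgood
  refine flat_localizedModule_of_atPrime _ _ ?_
  have hnat : ∀ a, g.appLE ⊤ ⊤ le_top ((Scheme.ΓSpecIso (CommRingCat.of A)).inv a) =
      (Scheme.ΓSpecIso (CommRingCat.of A')).inv (algebraMap A A' a) := fun a => by
    rw [Scheme.Hom.appLE, Subsingleton.elim (homOfLE _) (𝟙 _)]
    simp only [op_id, CategoryTheory.Functor.map_id, Category.comp_id]
    exact (ConcreteCategory.congr_hom (Scheme.ΓSpecIso_inv_naturality (CommRingCat.ofHom (algebraMap A A'))) a).symm
  haveI : Algebra.IsIntegral Γ(Spec (CommRingCat.of A), ⊤) Γ(Spec (CommRingCat.of A'), ⊤) := by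
    refine algebraMap_isIntegral_iff.1 ?_
    exact ((IsIntegralHom.isIntegral_app g ⊤ hT) : _)
  refine flat_of_integral (A' := Γ(Spec (CommRingCat.of A'), ⊤)) (P := Γ(X, U)) (fun a b hab => ?_) _ _
  obtain ⟨a, rfl⟩ := (Scheme.ΓSpecIso (CommRingCat.of A)).commRingCatIsoToRingEquiv.symm.surjective a
  obtain ⟨b, rfl⟩ := (Scheme.ΓSpecIso (CommRingCat.of A)).commRingCatIsoToRingEquiv.symm.surjective b
  refine congrArg _ (hinj ((ConcreteCategory.bijective_of_isIso (Scheme.ΓSpecIso (CommRingCat.of A')).inv).1 ?_))
  rw [← hnat, ← hnat]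
  exact hab

end Groth.Agent.EGA43.ProperInj
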