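import Groth.Agent.EGA43.ProperInj.Core
import Mathlib.RingTheory.Flat.Localization
import Mathlib.RingTheory.Localization.BaseChange

/-!
# Flatness descends along injective proper morphisms over a Noetherian ring
-/

set_option autoImplicit false
set_option backward.isDefEq.respectTransparency false
set_option linter.style.haveILetI false

universe u

open IsLocalRing
open scoped TensorProduct

namespace Groth.Agent.EGA43.ProperInj

theorem flat_of_noetherian {A C : Type u} [CommRing A] [IsNoetherianRing A] [CommRing C] [Algebra A C]
    [Algebra.FiniteType A C] (M : Type u) [AddCommGroup M] [Module A M] [Module C M] [IsScalarTower A C M]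
    [Module.Finite C M] {ι : Type u} [Finite ι] (B : ι → Type u) [∀ i, CommRing (B i)] [∀ i, Algebra A (B i)]
    [∀ i, Algebra.FiniteType A (B i)] (c : ProperCover A B)
    (hinj : ∀ a : A, (∀ i, algebraMap A (B i) a = 0) → a = 0)
    (hflat : ∀ i, Module.Flat (B i) (B i ⊗[A] M)) : Module.Flat A M := by
  classical
  cases nonempty_fintype ι
  haveI : IsNoetherianRing C := Algebra.FiniteType.isNoetherianRing A C
  refine Module.flat_of_isLocalized_maximal C M (fun P _ => Localization.AtPrime P ⊗[C] M)
    (fun P _ => TensorProduct.mk C (Localization.AtPrime P) M 1) fun P _ => ?_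
  let p : Ideal A := P.comap (algebraMap A C)
  let R := Localization.AtPrime p
  let S := Localization.AtPrime P
  letI : Algebra R S := (Localization.localRingHom p P (algebraMap A C) rfl).toAlgebra
  haveI : IsScalarTower A R S := IsScalarTower.of_algebraMap_eq fun a => by
    show algebraMap A S a = Localization.localRingHom p P (algebraMap A C) rfl (algebraMap A R a)
    rw [Localization.localRingHom_to_map, ← IsScalarTower.algebraMap_apply]
  haveI : IsNoetherianRing R := IsLocalization.isNoetherianRing p.primeCompl R inferInstance
  haveI : IsNoetherianRing S := IsLocalization.isNoetherianRing P.primeCompl S inferInstance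
  haveI : Module.Flat C S := IsLocalization.flat S P.primeCompl
  haveI : IsLocalHom (algebraMap R S) := Localization.isLocalHom_localRingHom p P (algebraMap A C) rfl
  obtain ⟨cR⟩ := c.nonempty_baseChange R
  haveI : Module.Flat A R := IsLocalization.flat R p.primeCompl
  refine flat_localized (A := A) (R := R) (C := C) (S := S) ⟨p.primeCompl, inferInstance⟩ ?_ M B cR ?_ hflat
  · rw [IsLocalRing.jacobson_eq_maximalIdeal ⊥ bot_ne_top, Ideal.map_le_iff_le_comap]
    intro r hr
    exact map_nonunit (algebraMap R S) r hr
  intro r hr
  let φ : A →ₗ[A] ∀ i, B i := LinearMap.pi fun i => Algebra.linearMap A (B i)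
  have hφ : Function.Injective φ := (injective_iff_map_eq_zero φ).2 fun a ha => hinj a fun i => congrFun ha i
  have h1 := Module.Flat.lTensor_preserves_injective_linearMap (M := R) φ hφ
  have h2 : LinearMap.lTensor R φ (r ⊗ₜ[A] (1 : A)) = 0 := by
    refine (TensorProduct.piRight A A R B).injective ?_
    rw [map_zero]
    funext i
    rw [LinearMap.lTensor_tmul, TensorProduct.piRight_apply, TensorProduct.piRightHom_tmul]
    show r ⊗ₜ[A] (algebraMap A (B i) 1) = 0
    rw [map_one, ← hr i, Algebra.TensorProduct.algebraMap_apply]
    rfl
  have h3 : r ⊗ₜ[A] (1 : A) = 0 := h1 (by rw [h2, map_zero])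
  simpa using congrArg (TensorProduct.rid A R) h3

end Groth.Agent.EGA43.ProperInj
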