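import Groth.Agent.EGA43.ProperInj.Descent
import Groth.Agent.EGA43.FlatDescent.Model
import Groth.Agent.H8Lim.NoetherianModel

/-!
# EGA IV 11.5: flatness descends along proper morphisms injective on functions
-/

set_option autoImplicit false
set_option backward.isDefEq.respectTransparency false
set_option linter.style.haveILetI false

universe u

open CategoryTheory CategoryTheory.Limits AlgebraicGeometry TopologicalSpace
open scoped TensorProduct

namespace Groth.Agent.EGA43.ProperInj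

/-- The restriction of a function of the base to a piece. -/
theorem piece_appTop {A B : Type u} [CommRing A] [CommRing B] [Algebra A B] {T : Scheme.{u}}
    (g : T ⟶ Spec (CommRingCat.of A)) (j : Spec (CommRingCat.of B) ⟶ T)
    (hj : j ≫ g = Spec.map (CommRingCat.ofHom (algebraMap A B))) (x : A) :
    j.appTop (g.appTop ((Scheme.ΓSpecIso (CommRingCat.of A)).inv x)) =
      (Scheme.ΓSpecIso (CommRingCat.of B)).inv (algebraMap A B x) := by
  show (g.appTop ≫ j.appTop) _ = _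
  rw [← Scheme.Hom.comp_appTop, hj]
  exact (ConcreteCategory.congr_hom (Scheme.ΓSpecIso_inv_naturality (CommRingCat.ofHom (algebraMap A B))) x).symm

/-- A function of the base vanishing on a covering family of pieces vanishes upstairs. -/
theorem appTop_eq_zero_of_pieces {A : Type u} [CommRing A] {T : Scheme.{u}} (g : T ⟶ Spec (CommRingCat.of A))
    {ι : Type u} {B : ι → Type u} [∀ i, CommRing (B i)] [∀ i, Algebra A (B i)]
    (j : ∀ i, Spec (CommRingCat.of (B i)) ⟶ T) (ho : ∀ i, IsOpenImmersion (j i))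
    (hj : ∀ i, j i ≫ g = Spec.map (CommRingCat.ofHom (algebraMap A (B i))))
    (hcov : ∀ t : T, ∃ i, t ∈ Set.range (j i)) (x : A) (hx : ∀ i, algebraMap A (B i) x = 0) :
    g.appTop ((Scheme.ΓSpecIso (CommRingCat.of A)).inv x) = 0 := by
  refine TopCat.Presheaf.section_ext T.sheaf ⊤ _ _ fun t ht => ?_
  rw [map_zero]
  show T.presheaf.germ ⊤ t trivial (g.appTop ((Scheme.ΓSpecIso (CommRingCat.of A)).inv x)) = 0
  obtain ⟨i, q, rfl⟩ := hcov t
  haveI := ho i
  refine (ConcreteCategory.bijective_of_isIso ((j i).stalkMap q)).1 ?_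
  rw [map_zero, Scheme.Hom.germ_stalkMap_apply]
  show (Spec (CommRingCat.of (B i))).presheaf.germ ⊤ q trivial
    ((j i).appTop (g.appTop ((Scheme.ΓSpecIso (CommRingCat.of A)).inv x))) = 0
  rw [piece_appTop g (j i) (hj i), hx i, map_zero, map_zero]

/-- A function of the base vanishing upstairs vanishes on every piece. -/
theorem algebraMap_eq_zero_of_appTop {A B : Type u} [CommRing A] [CommRing B] [Algebra A B] {T : Scheme.{u}}
    (g : T ⟶ Spec (CommRingCat.of A)) (j : Spec (CommRingCat.of B) ⟶ T)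
    (hj : j ≫ g = Spec.map (CommRingCat.ofHom (algebraMap A B))) (x : A)
    (hx : g.appTop ((Scheme.ΓSpecIso (CommRingCat.of A)).inv x) = 0) : algebraMap A B x = 0 := by
  have h := piece_appTop g j hj x
  rw [hx, map_zero] at h
  refine (ConcreteCategory.bijective_of_isIso (Scheme.ΓSpecIso (CommRingCat.of B)).inv).1 ?_
  rw [map_zero]
  exact h.symm

attribute [local instance] FlatDescent.bcModule

/-- Injectivity on the pieces passes to the localisation and to an intermediate base. -/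
theorem localized_injective {A₁ A₂ A : Type u} [CommRing A₁] [CommRing A₂] [CommRing A] [Algebra A₁ A₂]
    [Algebra A₁ A] [Algebra A₂ A] [IsScalarTower A₁ A₂ A] (p : Ideal A) [p.IsPrime]
    [IsScalarTower A₁ A₂ (Localization.AtPrime p)]
    {ι : Type u} [Finite ι] (B : ι → Type u) [∀ i, CommRing (B i)] [∀ i, Algebra A₁ (B i)]
    (hz : ∀ x : A, (∀ i, algebraMap A (A ⊗[A₁] B i) x = 0) → algebraMap A (Localization.AtPrime p) x = 0)
    (x : Localization.AtPrime p)
    (hx : ∀ i, algebraMap (Localization.AtPrime p) (Localization.AtPrime p ⊗[A₂] (A₂ ⊗[A₁] B i)) x = 0) :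
    x = 0 := by
  classical
  cases nonempty_fintype ι
  let Ap := Localization.AtPrime p
  obtain ⟨y, t, rfl⟩ := IsLocalization.exists_mk'_eq p.primeCompl x
  have hy : ∀ i, algebraMap A Ap y ⊗ₜ[A₁] (1 : B i) = 0 := fun i => by
    have h1 := congrArg (fun z => algebraMap A Ap t • z) (hx i)
    simp only [smul_zero] at h1
    rw [Algebra.TensorProduct.algebraMap_apply, TensorProduct.smul_tmul', smul_eq_mul] at h1
    have h3 : algebraMap A Ap t * (algebraMap Ap Ap (IsLocalization.mk' Ap y t)) = algebraMap A Ap y := by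
      rw [mul_comm]
      exact IsLocalization.mk'_spec _ _ _
    rw [h3] at h1
    have h2 := congrArg (TensorProduct.AlgebraTensorModule.cancelBaseChange A₁ A₂ Ap Ap (B i)) h1
    simpa [Algebra.TensorProduct.one_def] using h2
  have hr : ∀ i, ∃ r : p.primeCompl, (r : A) • (y ⊗ₜ[A₁] (1 : B i)) = 0 := fun i => by
    have h1 : TensorProduct.mk A Ap (A ⊗[A₁] B i) 1 (y ⊗ₜ[A₁] (1 : B i)) = 0 := by
      refine (TensorProduct.AlgebraTensorModule.cancelBaseChange A₁ A Ap Ap (B i)).injective ?_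
      rw [map_zero, TensorProduct.mk_apply, TensorProduct.AlgebraTensorModule.cancelBaseChange_tmul,
        ← algebraMap_smul Ap y (1 : Ap), smul_eq_mul, mul_one]
      exact hy i
    exact (IsLocalizedModule.eq_zero_iff p.primeCompl _).1 h1
  choose r hr using hr
  let r' : A := ∏ i, (r i : A)
  have h0 := hz (r' * y) fun i => by
    obtain ⟨w, hw⟩ : (r i : A) ∣ r' := Finset.dvd_prod_of_mem _ (Finset.mem_univ i)
    have h1 := congrArg (fun z => w • z) (hr i)
    simp only [smul_zero] at h1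
    rw [Algebra.TensorProduct.algebraMap_apply, ← h1, TensorProduct.smul_tmul', TensorProduct.smul_tmul']
    show (r' * y) ⊗ₜ[A₁] (1 : B i) = (w * ((r i : A) * y)) ⊗ₜ[A₁] (1 : B i)
    rw [hw]
    congr 1
    ring
  rw [map_mul] at h0
  have hu : IsUnit (algebraMap A Ap r') := IsLocalization.map_units Ap
    (⟨r', prod_mem fun i _ => (r i).2⟩ : p.primeCompl)
  rw [IsLocalization.mk'_eq_zero_iff]
  exact (IsLocalization.map_eq_zero_iff p.primeCompl Ap y).1 (hu.mul_right_eq_zero.1 h0)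

/-- Flatness over a piece passes to the base-changed piece of a stage. -/
theorem flat_pushed {R₀ A₁ A₂ A : Type u} [CommRing R₀] [CommRing A₁] [CommRing A₂] [CommRing A]
    [Algebra R₀ A₂] [Algebra R₀ A] [Algebra A₁ A₂] [Algebra A₁ A] [Algebra A₂ A] [IsScalarTower R₀ A₂ A]
    (p : Ideal A) [p.IsPrime] [IsScalarTower A₁ A₂ (Localization.AtPrime p)]
    [IsScalarTower R₀ A₂ (Localization.AtPrime p)]
    (M M₀ : Type u) [AddCommGroup M] [Module A M] [AddCommGroup M₀] [Module R₀ M₀] (e : A ⊗[R₀] M₀ ≃ₗ[A] M)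
    (B : Type u) [CommRing B] [Algebra A₁ B]
    (h : Module.Flat (A ⊗[A₁] B) ((A ⊗[A₁] B) ⊗[A] M)) :
    Module.Flat (Localization.AtPrime p ⊗[A₂] (A₂ ⊗[A₁] B))
      ((Localization.AtPrime p ⊗[A₂] (A₂ ⊗[A₁] B)) ⊗[A₂] (A₂ ⊗[R₀] M₀)) := by
  let Ap := Localization.AtPrime p
  let W := Ap ⊗[A₂] (A₂ ⊗[A₁] B)
  let φ : A ⊗[A₁] B →+* W :=
    ((Algebra.TensorProduct.cancelBaseChange A₁ A₂ Ap Ap B).symm.toAlgHom.toRingHom).comp
      (Algebra.TensorProduct.map (IsScalarTower.toAlgHom A₁ A Ap) (AlgHom.id A₁ B)).toRingHom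
  letI : Algebra (A ⊗[A₁] B) W := φ.toAlgebra
  haveI : IsScalarTower A (A ⊗[A₁] B) W := IsScalarTower.of_algebraMap_eq fun x => by
    show _ = φ (x ⊗ₜ[A₁] 1)
    simp [φ, W]
    rfl
  haveI := h
  exact Module.Flat.of_linearEquiv
    (TensorProduct.AlgebraTensorModule.cancelBaseChange R₀ A₂ W W M₀ ≪≫ₗ
      (TensorProduct.AlgebraTensorModule.cancelBaseChange R₀ A W W M₀).symm ≪≫ₗ
        TensorProduct.AlgebraTensorModule.congr (LinearEquiv.refl W W) e ≪≫ₗ
          (TensorProduct.AlgebraTensorModule.cancelBaseChange A (A ⊗[A₁] B) W W M).symm)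

/-- The conclusion from the data of a Noetherian model. -/
theorem flat_of_models {R₀ A₁ A₂ A : Type u} [CommRing R₀] [CommRing A₁] [CommRing A₂] [CommRing A]
    [IsNoetherianRing A₂] [Algebra R₀ A₂] [Algebra R₀ A] [Algebra A₁ A₂] [Algebra A₁ A] [Algebra A₂ A]
    [IsScalarTower R₀ A₂ A] [IsScalarTower A₁ A₂ A] (p : Ideal A) [p.IsPrime]
    (P₀ M₀ : Type u) [CommRing P₀] [Algebra R₀ P₀] [Algebra.FiniteType R₀ P₀] [AddCommGroup M₀] [Module R₀ M₀]
    [Module P₀ M₀] [IsScalarTower R₀ P₀ M₀] [Module.Finite P₀ M₀]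
    (M : Type u) [AddCommGroup M] [Module A M] (e : A ⊗[R₀] M₀ ≃ₗ[A] M)
    {ι : Type u} [Finite ι] (B : ι → Type u) [∀ i, CommRing (B i)] [∀ i, Algebra A₁ (B i)]
    [∀ i, Algebra.FiniteType A₁ (B i)] (c₂ : ProperCover A₂ (fun i => A₂ ⊗[A₁] B i))
    (hz : ∀ x : A, (∀ i, algebraMap A (A ⊗[A₁] B i) x = 0) → algebraMap A (Localization.AtPrime p) x = 0)
    (hflat : ∀ i, Module.Flat (A ⊗[A₁] B i) ((A ⊗[A₁] B i) ⊗[A] M)) :
    Module.Flat (Localization.AtPrime p) (Localization.AtPrime p ⊗[A] M) := by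
  let Ap := Localization.AtPrime p
  haveI : IsScalarTower A₁ A₂ Ap := IsScalarTower.of_algebraMap_eq fun x => by
    rw [IsScalarTower.algebraMap_apply A₁ A Ap, IsScalarTower.algebraMap_apply A₂ A Ap,
      IsScalarTower.algebraMap_apply A₁ A₂ A]
  haveI : IsScalarTower R₀ A₂ Ap := IsScalarTower.of_algebraMap_eq fun x => by
    rw [IsScalarTower.algebraMap_apply R₀ A Ap, IsScalarTower.algebraMap_apply A₂ A Ap,
      IsScalarTower.algebraMap_apply R₀ A₂ A]
  haveI : Algebra.FiniteType A₂ (A₂ ⊗[R₀] P₀) := Algebra.FiniteType.baseChange (A := P₀) A₂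
  haveI : Module.Finite (A₂ ⊗[R₀] P₀) (A₂ ⊗[R₀] M₀) := FlatDescent.finite_bc R₀ P₀ M₀ A₂
  haveI : ∀ i, Algebra.FiniteType A₂ (A₂ ⊗[A₁] B i) := fun i => Algebra.FiniteType.baseChange (A := B i) A₂
  have h : Module.Flat Ap (Ap ⊗[A₂] (A₂ ⊗[R₀] M₀)) :=
    flat_of_stage (A := Ap) (P := A₂ ⊗[R₀] P₀) (M := A₂ ⊗[R₀] M₀) (fun i => A₂ ⊗[A₁] B i) c₂
      (localized_injective p B hz)
      fun i => flat_pushed (A₂ := A₂) p M M₀ e (B i) (hflat i)
  exact Module.Flat.of_linearEquiv
    ((TensorProduct.AlgebraTensorModule.congr (LinearEquiv.refl Ap Ap) e).symm ≪≫ₗ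
      TensorProduct.AlgebraTensorModule.cancelBaseChange R₀ A Ap Ap M₀ ≪≫ₗ
        (TensorProduct.AlgebraTensorModule.cancelBaseChange R₀ A₂ Ap Ap M₀).symm)

theorem flat_of_proper_at {A C : Type u} [CommRing A] [CommRing C] [Algebra A C] [Algebra.FinitePresentation A C]
    (M : Type u) [AddCommGroup M] [Module A M] [Module C M] [IsScalarTower A C M] [Module.FinitePresentation C M]
    {T : Scheme.{u}} (g : T ⟶ Spec (CommRingCat.of A)) [IsProper g] [LocallyOfFinitePresentation g]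
    (p : Ideal A) [p.IsPrime]
    (hinj : ∀ a : A, (∀ (B : Type u) [CommRing B] [Algebra A B] (j : Spec (CommRingCat.of B) ⟶ T),
      IsOpenImmersion j → j ≫ g = Spec.map (CommRingCat.ofHom (algebraMap A B)) → algebraMap A B a = 0) →
        algebraMap A (Localization.AtPrime p) a = 0)
    (hflat : ∀ (B : Type u) [CommRing B] [Algebra A B] (j : Spec (CommRingCat.of B) ⟶ T),
      IsOpenImmersion j → j ≫ g = Spec.map (CommRingCat.ofHom (algebraMap A B)) →
        Module.Flat B (B ⊗[A] M)) :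
    Module.Flat (Localization.AtPrime p) (Localization.AtPrime p ⊗[A] M) := by
  classical
  obtain ⟨R₀, hR₀, P₀, M₀, _, _, _, _, _, _, _, _, ψ, e, -, -⟩ :=
    FlatDescent.exists_model_of_finitePresentation (A := A) (S := C) (N := M)
  obtain ⟨s, T₀, g₀, a, hlfp, hpr, sq⟩ := H8Lim.exists_noetherian_model_proper (R := A) g
  haveI := hpr
  haveI := hlfp
  let A₁ := H8Lim.fgSub A s
  haveI : CompactSpace T₀ := QuasiCompact.compactSpace_of_compactSpace g₀
  obtain ⟨t, ht⟩ := (isCompact_univ (X := ↥T₀)).elim_finite_subcover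
    (fun V : T₀.affineOpens => (V.1 : Set T₀)) (fun V => V.1.isOpen)
    (fun y _ => by
      obtain ⟨V, hV, hy, -⟩ := exists_isAffineOpen_mem_and_subset (x := y) (U := ⊤) trivial
      exact Set.mem_iUnion.2 ⟨⟨V, hV⟩, hy⟩)
  let B : ↥t → Type u := fun V => Γ(T₀, V.1.1)
  letI : ∀ V, Algebra A₁ (B V) := fun V =>
    ((g₀.appLE ⊤ V.1.1 le_top).hom.comp (Scheme.ΓSpecIso (CommRingCat.of A₁)).inv.hom).toAlgebra
  let j : ∀ V : ↥t, Spec (CommRingCat.of (B V)) ⟶ T₀ := fun V => V.1.2.fromSpec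
  have hj : ∀ V, j V ≫ g₀ = Spec.map (CommRingCat.ofHom (algebraMap A₁ (B V))) := fun V => by
    have h := IsAffineOpen.SpecMap_appLE_fromSpec g₀ (isAffineOpen_top (Spec (CommRingCat.of A₁))) V.1.2 le_top
    refine h.symm.trans ?_
    rw [IsAffineOpen.fromSpec_top, Scheme.isoSpec_Spec_inv]
    exact (Spec.map_comp _ _).symm
  have hcov : ∀ y : T₀, ∃ V, y ∈ Set.range (j V) := fun y => by
    obtain ⟨V, hV, hy⟩ := Set.mem_iUnion₂.1 (ht (Set.mem_univ y))
    exact ⟨⟨V, hV⟩, V.2.range_fromSpec.ge hy⟩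
  haveI : ∀ V, Algebra.FiniteType A₁ (B V) := fun V => by
    have h := LocallyOfFiniteType.finiteType_appLE (f := g₀) (isAffineOpen_top _) V.1.2 (le_top : V.1.1 ≤ g₀ ⁻¹ᵁ ⊤)
    exact RingHom.FiniteType.comp h (RingHom.FiniteType.of_surjective _ (Scheme.ΓSpecIso (CommRingCat.of A₁)).commRingCatIsoToRingEquiv.symm.surjective)
  obtain ⟨j', hj'o, hj'g, hj'c⟩ := exists_pieces_of_isPullback g₀ j (fun V => inferInstance) hj hcov A a g sq
  -- the Noetherian base
  haveI : IsNoetherianRing R₀ := hR₀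
  let A₂' : Subalgebra R₀ A := Algebra.adjoin R₀ (s : Set A)
  haveI : IsNoetherianRing A₂' := FlatDescent.isNoetherianRing_of_fg (Subalgebra.fg_adjoin_finset s)
  have hA₁ : ∀ x : A₁, (x : A) ∈ A₂' := fun x => by
    have h : H8Lim.fgSub A s ≤ A₂'.restrictScalars ℤ := Algebra.adjoin_le Algebra.subset_adjoin
    exact h x.2
  letI : Algebra A₁ A₂' :=
    ({ toFun := fun x => ⟨x.1, hA₁ x⟩
       map_one' := rfl
       map_mul' := fun _ _ => rfl
       map_zero' := rfl
       map_add' := fun _ _ => rfl } : A₁ →+* A₂').toAlgebra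
  haveI : IsScalarTower A₁ A₂' A := IsScalarTower.of_algebraMap_eq fun _ => rfl
  obtain ⟨c₂⟩ := (ProperCover.mk T₀ g₀ hpr j (fun V => inferInstance) hj hcov).nonempty_baseChange A₂'
  exact flat_of_models (A₂ := A₂') p P₀ M₀ M e B c₂
    (fun x hx => hinj x fun B' _ _ j₀ _ hj₀g =>
      algebraMap_eq_zero_of_appTop g j₀ hj₀g _ (appTop_eq_zero_of_pieces g j' hj'o hj'g hj'c _ hx))
    (fun V => hflat (A ⊗[A₁] B V) (j' V) (hj'o V) (hj'g V))

end Groth.Agent.EGA43.ProperInj
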