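import Groth.Agent.EGA43.ProperInj.Bridge
import Groth.Agent.EGA43.DvrCrit.Structure
import Groth.Agent.EGA43.FibDepth.Unit
import Groth.Agent.Coherent.FinitePres

/-!
# Flatness of a proper morphism tested on its self product
-/

set_option autoImplicit false
set_option backward.isDefEq.respectTransparency false
set_option linter.style.haveILetI false

universe u

open CategoryTheory CategoryTheory.Limits AlgebraicGeometry TopologicalSpace

namespace Groth.Agent.EGA43.ProperInj

theorem flat_iff_flat_fst {X Y : Scheme.{u}} (f : X ⟶ Y) [IsProper f] [LocallyOfFinitePresentation f]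
    (hinj : ∀ V : Y.Opens, Function.Injective (f.app V)) : Flat f ↔ Flat (pullback.fst f f) := by
  refine ⟨fun h => MorphismProperty.pullback_fst _ _ h, fun h => Flat.of_stalkMap _ fun x => ?_⟩
  haveI : Flat (pullback.snd f f) := by
    rw [← pullbackSymmetry_hom_comp_fst]
    infer_instance
  rw [← FibDepth.isFlatOverAt_structureModule]
  haveI : Coh.IsQCoh (Coh.structureModule X) := Coherent.isQCoh_structureModule
  refine isFlatOverAt_of_proper f _ (FibDepth.isFP_structureModule X) x f (fun V s hx hs => ?_) fun w _ => ?_
  · have h0 : s = 0 := hinj V (hs.trans (map_zero _).symm)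
    exact ⟨V, hx, le_rfl, by rw [h0, map_zero]⟩
  · exact (DvrCrit.isFlatOverAt_pullback_structureModule _ _ w).2 (Flat.stalkMap _ w)

end Groth.Agent.EGA43.ProperInj
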